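import Cfsg.Agent.H496.SpTwF.Sq
import Cfsg.Agent.H565.TwF4Rank
import Cfsg.Agent.H666.TwF
import Cfsg.Agent.H772.TF.Plus
import Cfsg.Agent.Prune
set_option linter.all false
prune_inst 0x7f00000000000000000000000000000000000000000000000000000000000000000000000000000000000000000000000000000000000000000000000000000000000000000000000000000000000000003fffffffffffffffffffffffffffbeffbdffffffff
open scoped Cfsg.Agent.FastGrp

-- part: H496/SpTwF/RowOf
section
/-!
# `Row p` for `²F₄(q)`, `q ≥ 8`, from the case `p ∣ q + 1` (helper496, for helper818)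
-/

set_option autoImplicit false
set_option linter.unusedSectionVars false

namespace Cfsg.Agent.H496.SpTwF.RowOf

open Subgroup Cfsg Cfsg.Lie
open Cfsg.Agent.H818.StrP
open Cfsg.Agent.H42.Tw
open Cfsg.Agent.ChevalleyStructure.TwF4.TwistedFix (exists_rln)

variable {K : Type*} [Field K] [Fintype K] {m : ℕ} (hm : 1 ≤ m) (hK : Fintype.card K = 2 ^ (2 * m + 1))
include hm hK

/-- `Row p` for `²F₄(q)`, given the case `p ∣ q + 1`. -/
theorem row_of {p : ℕ} [hp : Fact p.Prime] (hp2 : p ≠ 2)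
    (hB : p ∣ Nat.card K + 1 → NoSP p ↥(twistedF4 K (2 ^ m))) : Row p ↥(twistedF4 K (2 ^ m)) := by
  have hch := Cfsg.Agent.ChevalleyStructure.TwF4.Twisted.charP_two hK
  have hfin := finite_tw (K := K) (2 ^ m)
  have hq : Nat.card K = 2 ^ (2 * m + 1) := by rw [Nat.card_eq_fintype_card, hK]
  have hq2 : 2 ≤ 2 ^ (2 * m + 1) := by
    calc 2 = 2 ^ 1 := rfl
      _ ≤ 2 ^ (2 * m + 1) := Nat.pow_le_pow_right (by norm_num) (by omega)
  have hcard : Nat.card ↥(Lie.twistedF4 K (2 ^ m)) = ord (2 ^ (2 * m + 1)) := Cfsg.Agent.S1068.result hK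
  have hF := exists_unit hm hK
  have hev : Even (Nat.card K) := by
    rw [hq, pow_succ]
    exact even_two.mul_left _
  obtain ⟨φ, hφ⟩ := exists_rln hK
  by_cases hd : p ∣ ord (2 ^ (2 * m + 1))
  swap
  · left
    intro P
    have h1 : (P : Subgroup ↥(Lie.twistedF4 K (2 ^ m))) = ⊥ := by
      rw [← card_eq_one, Sylow.card_eq_multiplicity, hcard, Nat.factorization_eq_zero_of_not_dvd hd, pow_zero]
    rw [h1]
    infer_instance
  have hpq : ¬ p ∣ 2 ^ (2 * m + 1) := by
    intro h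
    exact hp2 ((Nat.prime_dvd_prime_iff_eq hp.out Nat.prime_two).1 (hp.out.dvd_of_dvd_pow h))
  set S := Cfsg.Agent.KFacts.TwF4.Inst.full hK hφ with hS
  by_cases hp3 : p = 3
  · -- `3 ∣ q + 1`
    refine Or.inr (hB ?_)
    rw [hp3, hq]
    have h4 : 2 ^ (2 * m + 1) = 4 ^ m * 2 := by rw [pow_succ, pow_mul]; norm_num
    rw [h4]
    have h5 : 4 ^ m % 3 = 1 := by
      rw [Nat.pow_mod]; simp
    omega
  have h5 : 5 ≤ p := by
    have := hp.out.two_le
    have h4 : p ≠ 4 := by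
      rintro rfl
      exact absurd hp.out (by norm_num)
    omega
  rcases cases_ord hq2 hpq hd with h | h | h | h | h
  · exact Or.inr (Cfsg.Agent.H666.TwF.noSP_dvd S rfl hp2 (by rw [hq]; exact h))
  · exact Or.inr (hB (by rw [hq]; exact h))
  · exact Or.inr (Sq.noSP_sq S rfl hF hev hp2 (by rw [hq, ← pow_two]; exact h))
  · exact Or.inl fun P => cyclic_twF4' hK h5 (Or.inl h) P.2
  · exact Or.inl fun P => cyclic_twF4' hK h5 (Or.inr h) P.2

end Cfsg.Agent.H496.SpTwF.RowOf
end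

-- part: H496/SpTwF/Row
section
/-!
# The row `²F₄(q)` of S2120 (helper496, helper772, task 708)

* `row_2F4` : `Row p X` for `X ≅ ²F₄(q)`, `q ≥ 8`, and every odd prime `p`.
-/

set_option autoImplicit false

namespace Cfsg.Agent.H496.SpTwF.RowFin

open Cfsg Cfsg.Agent.H818.StrP

/-- **`Row p` for `²F₄(q)`.** -/
theorem row_2F4 {X : Type*} [Group X] [Finite X] (h : Lie.Iso2F4 X) {p : ℕ} [Fact p.Prime] (hp2 : p ≠ 2) : Row p X := by
  obtain ⟨K, _, _, m, hm, hK, ⟨e⟩⟩ := h
  have hch := Cfsg.Agent.ChevalleyStructure.TwF4.Twisted.charP_two hK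
  have hfin := H42.Tw.finite_tw (K := K) (2 ^ m)
  refine Row.congr e.symm (RowOf.row_of hm hK hp2 fun hd => ?_)
  rw [Nat.card_eq_fintype_card, hK] at hd
  exact H772.TF.noSP_plus hm hK hp2 hd

end Cfsg.Agent.H496.SpTwF.RowFin
end
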